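import Groth.Agent.S3848
import Groth.Agent.Lib.FlatH4.GenPt
import Groth.Agent.Lib.DVRVal.Basic
import Mathlib.AlgebraicGeometry.Morphisms.Flat
import Mathlib.AlgebraicGeometry.Morphisms.ClosedImmersion

set_option autoImplicit false
set_option maxHeartbeats 800000
set_option backward.isDefEq.respectTransparency.types false

universe u

open CategoryTheory Limits AlgebraicGeometry TopologicalSpace IsLocalRing

namespace Groth.Agent.RatExt25

variable {X Y S Z : Scheme.{u}} (f : X ⟶ S) (g : Y ⟶ S) (U : S.Opens) (h : ↑(f ⁻¹ᵁ U) ⟶ Y)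
  (iZ : Z ⟶ X) (h₀ : Z ⟶ Y)

/-- The criterion of the statement. -/
def Crit : Prop :=
  ∀ (R : Type u) [CommRing R] [IsDomain R] [IsDiscreteValuationRing R]
    (u : Spec (CommRingCat.of R) ⟶ S),
    u (IsLocalRing.closedPoint R) ∉ U → u (genericPoint ↥(Spec (CommRingCat.of R))) ∈ U →
    ∃ h₁ : pullback f u ⟶ pullback g u,
      h₁ ≫ pullback.snd g u = pullback.snd f u ∧
      ((pullback.fst f u) ⁻¹ᵁ (f ⁻¹ᵁ U)).ι ≫ h₁ ≫ pullback.fst g u = (pullback.fst f u ∣_ (f ⁻¹ᵁ U)) ≫ h ∧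
      ∀ z₁ : ↥(pullback (iZ ≫ f) u),
        (pullback (iZ ≫ f) u).fromSpecResidueField z₁ ≫
            pullback.lift (pullback.fst (iZ ≫ f) u ≫ iZ) (pullback.snd (iZ ≫ f) u)
              ((Category.assoc _ _ _).trans pullback.condition) ≫ h₁ ≫ pullback.fst g u =
          (pullback (iZ ≫ f) u).fromSpecResidueField z₁ ≫ pullback.fst (iZ ≫ f) u ≫ h₀

variable {f g U h iZ h₀}

theorem dense_preimage [Flat f] [IsLocallyNoetherian S] (hU : Dense (U : Set S)) :
    Dense ((f ⁻¹ᵁ U : X.Opens) : Set X) := by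
  intro x
  obtain ⟨η, hη, hx⟩ := FlatH4.exists_isMaxPt_specializes x
  exact specializes_iff_mem_closure.1 hx |> fun h1 => closure_mono
    (Set.singleton_subset_iff.2 (show η ∈ ((f ⁻¹ᵁ U : X.Opens) : Set X) from
      (FlatH4.IsMaxPt.map_of_flat f hη).mem_of_dense U.2 hU)) h1

theorem isIso_residueFieldMap (iZ : Z ⟶ X) [IsClosedImmersion iZ] (z : Z) : IsIso (iZ.residueFieldMap z) := by
  rw [ConcreteCategory.isIso_iff_bijective]
  refine ⟨(iZ.residueFieldMap z).hom.injective, ?_⟩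
  intro c
  obtain ⟨c, rfl⟩ := IsLocalRing.residue_surjective c
  obtain ⟨d, rfl⟩ := iZ.stalkMap_surjective z c
  exact ⟨IsLocalRing.residue _ d, rfl⟩

theorem map_inv_residueFieldMap (iZ : Z ⟶ X) (z : Z) [IsIso (iZ.residueFieldMap z)] {K : CommRingCat.{u}}
    (a : X.residueField (iZ z) ⟶ K) :
    Spec.map (inv (iZ.residueFieldMap z) ≫ a) ≫ Z.fromSpecResidueField z ≫ iZ =
      Spec.map a ≫ X.fromSpecResidueField (iZ z) := by
  rw [← Scheme.Hom.SpecMap_residueFieldMap_fromSpecResidueField, ← Category.assoc, ← Spec.map_comp,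
    IsIso.hom_inv_id_assoc]

/-- A field valued point of `X` over a point of the closed subscheme lifts to it. -/
theorem exists_lift [IsClosedImmersion iZ] {K : Type u} [Field K] (w : Spec (CommRingCat.of K) ⟶ X) (z : Z)
    (hw : w (closedPoint K) = iZ z) :
    ∃ σ : Spec (CommRingCat.of K) ⟶ Z, σ ≫ iZ = w := by
  obtain ⟨⟨p, a⟩, rfl⟩ := (Scheme.SpecToEquivOfField K X).symm.surjective w
  have hp : p = iZ z := by
    rw [← hw]
    show p = (Spec.map a ≫ X.fromSpecResidueField p) _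
    rw [Scheme.Hom.comp_apply, Scheme.fromSpecResidueField_apply]
  subst hp
  haveI : IsIso (iZ.residueFieldMap z) := isIso_residueFieldMap iZ z
  refine ⟨Spec.map (inv (iZ.residueFieldMap z) ≫ a) ≫ Z.fromSpecResidueField z, ?_⟩
  rw [Category.assoc, ← Scheme.Hom.SpecMap_residueFieldMap_fromSpecResidueField, ← Category.assoc, ← Spec.map_comp,
    IsIso.hom_inv_id_assoc]
  rfl

theorem lift_dvr [IsClosedImmersion iZ] (hZ : Set.range ⇑iZ = ((f ⁻¹ᵁ U : X.Opens) : Set X)ᶜ)
    (H : Crit f g U h iZ h₀) (R : Type u) [CommRing R] [IsDomain R] [IsDiscreteValuationRing R]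
    (K : Type u) [Field K] [Algebra R K] [IsFractionRing R K]
    (u : Spec (CommRingCat.of R) ⟶ X) (z : Z) (hu : u (closedPoint R) = iZ z)
    (c : Spec (CommRingCat.of K) ⟶ (f ⁻¹ᵁ U : Scheme.{u}))
    (hc : c ≫ (f ⁻¹ᵁ U).ι = Spec.map (CommRingCat.ofHom (algebraMap R K)) ≫ u) :
    ∃ h₁ : Spec (CommRingCat.of R) ⟶ Y, h₁ ≫ g = u ≫ f ∧
      Spec.map (CommRingCat.ofHom (algebraMap R K)) ≫ h₁ = c ≫ h ∧
      h₁ (closedPoint R) = h₀ z ∧
      ∀ σ : Spec (CommRingCat.of (ResidueField R)) ⟶ Z,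
        σ ≫ iZ = Spec.map (CommRingCat.ofHom (residue R)) ≫ u →
          Spec.map (CommRingCat.ofHom (residue R)) ≫ h₁ = σ ≫ h₀ := by
  have hclosed : (u ≫ f) (closedPoint R) ∉ U := by
    intro hm
    have : u (closedPoint R) ∈ Set.range iZ := hu ▸ ⟨z, rfl⟩
    rw [hZ] at this
    exact this hm
  have hgen : (u ≫ f) (genericPoint ↥(Spec (CommRingCat.of R))) ∈ U := by
    have hb : Spec.map (CommRingCat.ofHom (algebraMap R K)) (closedPoint K) =
        genericPoint ↥(Spec (CommRingCat.of R)) := by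
      rw [genericPoint_eq_bot_of_affine]
      apply PrimeSpectrum.ext
      show Ideal.comap (algebraMap R K) (maximalIdeal K) = ⊥
      rw [maximalIdeal_eq_bot, ← RingHom.ker_eq_comap_bot]
      exact (RingHom.injective_iff_ker_eq_bot _).1 (IsFractionRing.injective R K)
    rw [← hb, ← Scheme.Hom.comp_apply, ← Category.assoc, ← hc, Category.assoc, Scheme.Hom.comp_apply,
      Scheme.Hom.comp_apply]
    exact (c (closedPoint K)).2
  obtain ⟨h₁, e1, e2, e3⟩ := H R (u ≫ f) hclosed hgen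
  let s : Spec (CommRingCat.of R) ⟶ pullback f (u ≫ f) := pullback.lift u (𝟙 _) (by simp)
  have hs1 : s ≫ pullback.fst f (u ≫ f) = u := pullback.lift_fst ..
  have hs2 : s ≫ pullback.snd f (u ≫ f) = 𝟙 _ := pullback.lift_snd ..
  refine ⟨s ≫ h₁ ≫ pullback.fst g (u ≫ f), ?_, ?_, ?_⟩
  · simp only [Category.assoc]
    rw [pullback.condition, ← Category.assoc h₁, e1, ← Category.assoc, hs2, Category.id_comp]
  · have hr : Set.range (Spec.map (CommRingCat.ofHom (algebraMap R K)) ≫ s) ⊆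
        Set.range ((pullback.fst f (u ≫ f)) ⁻¹ᵁ (f ⁻¹ᵁ U)).ι := by
      rw [Scheme.Opens.range_ι]
      rintro _ ⟨p, rfl⟩
      show pullback.fst f (u ≫ f) _ ∈ f ⁻¹ᵁ U
      rw [← Scheme.Hom.comp_apply, Category.assoc, hs1, ← hc, Scheme.Hom.comp_apply]
      exact (c p).2
    have hl := IsOpenImmersion.lift_fac _ _ hr
    rw [← Category.assoc (Spec.map _), ← hl, Category.assoc, e2, ← Category.assoc]
    congr 1
    rw [← cancel_mono (f ⁻¹ᵁ U).ι, Category.assoc, morphismRestrict_ι, ← Category.assoc, hl, Category.assoc, hs1, hc]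
  · have key : ∀ σ : Spec (CommRingCat.of (ResidueField R)) ⟶ Z,
        σ ≫ iZ = Spec.map (CommRingCat.ofHom (residue R)) ≫ u →
          Spec.map (CommRingCat.ofHom (residue R)) ≫ s ≫ h₁ ≫ pullback.fst g (u ≫ f) = σ ≫ h₀ := by
      intro σ hσ
      let π : Spec (CommRingCat.of (ResidueField R)) ⟶ pullback (iZ ≫ f) (u ≫ f) :=
        pullback.lift σ (Spec.map (CommRingCat.ofHom (residue R))) (by
          rw [← Category.assoc, hσ, Category.assoc])
      have hπs : π ≫ pullback.lift (pullback.fst (iZ ≫ f) (u ≫ f) ≫ iZ) (pullback.snd (iZ ≫ f) (u ≫ f))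
          ((Category.assoc _ _ _).trans pullback.condition) = Spec.map (CommRingCat.ofHom (residue R)) ≫ s := by
        apply pullback.hom_ext
        · rw [Category.assoc, pullback.lift_fst, ← Category.assoc, pullback.lift_fst, hσ, Category.assoc, hs1]
        · rw [Category.assoc, pullback.lift_snd, pullback.lift_snd, Category.assoc, hs2, Category.comp_id]
      have hπ1 : π ≫ pullback.fst (iZ ≫ f) (u ≫ f) = σ := pullback.lift_fst ..
      rw [← Category.assoc (Spec.map _), ← hπs, Category.assoc, ← hπ1]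
      obtain ⟨⟨z₁, a⟩, hza⟩ := (Scheme.SpecToEquivOfField _ _).symm.surjective π
      have hz : π = Spec.map a ≫ (pullback (iZ ≫ f) (u ≫ f)).fromSpecResidueField z₁ := hza.symm
      rw [hz, Category.assoc, e3 z₁]
      simp only [Category.assoc]
    refine ⟨?_, key⟩
    have hcl : Spec.map (CommRingCat.ofHom (residue R)) (closedPoint (ResidueField R)) = closedPoint R :=
      IsLocalRing.comap_closedPoint (residue R)
    obtain ⟨σ, hσ⟩ := exists_lift (iZ := iZ) (Spec.map (CommRingCat.ofHom (residue R)) ≫ u) z (by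
      rw [Scheme.Hom.comp_apply, hcl]; exact hu)
    have hσz : σ (closedPoint (ResidueField R)) = z := by
      apply iZ.isClosedEmbedding.injective
      rw [← Scheme.Hom.comp_apply, hσ, Scheme.Hom.comp_apply, hcl]
      exact hu
    rw [← hcl, ← Scheme.Hom.comp_apply, key σ hσ, Scheme.Hom.comp_apply, hσz]

/-- Local extension near a point of `Z`. -/
theorem exists_local [IsLocallyNoetherian S] [IsLocallyNoetherian X] [Flat f] [LocallyOfFiniteType g]
    [IsClosedImmersion iZ] [IsReduced Z] (hU : Dense (U : Set S)) (hh : h ≫ g = (f ⁻¹ᵁ U).ι ≫ f)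
    (hh₀ : h₀ ≫ g = iZ ≫ f) (hZ : Set.range ⇑iZ = ((f ⁻¹ᵁ U : X.Opens) : Set X)ᶜ)
    (hnorm : ∀ z : ↥Z, IsDomain ↑(X.presheaf.stalk (iZ z)) ∧ IsIntegrallyClosed ↑(X.presheaf.stalk (iZ z)))
    (H : Crit f g U h iZ h₀) (z : Z) :
    ∃ (W : X.Opens) (_ : iZ z ∈ W) (V : Y.Opens) (_ : IsAffineOpen V) (_ : IsReduced (W : Scheme.{u}))
      (b : (W : Scheme.{u}) ⟶ Y), b ≫ g = W.ι ≫ f ∧ Set.range b ⊆ (V : Set Y) ∧
      (∀ {T : Scheme.{u}} (p : T ⟶ (f ⁻¹ᵁ U : Scheme.{u})) (r : T ⟶ (W : Scheme.{u})),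
        p ≫ (f ⁻¹ᵁ U).ι = r ≫ W.ι → r ≫ b = p ≫ h) ∧
      (∀ {T : Scheme.{u}} (r : T ⟶ (W : Scheme.{u})) (σ : T ⟶ Z),
        r ≫ W.ι = σ ≫ iZ → r ≫ b = σ ≫ h₀) := by
  classical
  set x := iZ z with hx
  have hxU : x ∉ f ⁻¹ᵁ U := by
    have : x ∈ Set.range iZ := ⟨z, rfl⟩
    rw [hZ] at this
    exact this
  haveI := (hnorm z).1
  haveI hziso : IsIso (iZ.residueFieldMap z) := isIso_residueFieldMap iZ z
  let m : Spec (X.residueField x) ⟶ pullback f g := by
    exact pullback.lift (X.fromSpecResidueField x)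
      (Spec.map (inv (iZ.residueFieldMap z)) ≫ Z.fromSpecResidueField z ≫ h₀) (by
        simp only [Category.assoc]
        rw [hh₀, ← reassoc_of% (iZ.SpecMap_residueFieldMap_fromSpecResidueField z), ← Category.assoc,
          ← Category.assoc, ← Spec.map_comp, IsIso.hom_inv_id, Spec.map_id, Category.id_comp])
  have hm1 : m ≫ pullback.fst f g = X.fromSpecResidueField x := pullback.lift_fst ..
  let y₀ := m (closedPoint (X.residueField x))
  have hy₀ : pullback.fst f g y₀ = x := by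
    rw [← Scheme.Hom.comp_apply, hm1, Scheme.fromSpecResidueField_apply]
  have hy₀2 : pullback.snd f g y₀ = h₀ z := by
    rw [← Scheme.Hom.comp_apply]
    simp only [m, pullback.lift_snd, Scheme.Hom.comp_apply, Scheme.fromSpecResidueField_apply]
  have hk : Function.Bijective ((pullback.fst f g).residueFieldMap y₀) := by
    refine ⟨((pullback.fst f g).residueFieldMap y₀).hom.injective, ?_⟩
    obtain ⟨⟨y, a⟩, hya⟩ := (Scheme.SpecToEquivOfField _ _).symm.surjective m
    have hy : y = y₀ := by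
      show y = m _
      rw [← hya]
      show y = (Spec.map a ≫ (pullback f g).fromSpecResidueField y) _
      rw [Scheme.Hom.comp_apply, Scheme.fromSpecResidueField_apply]
    subst hy
    have e : Spec.map a ≫ (pullback f g).fromSpecResidueField y₀ = m := hya
    have e2 : Spec.map ((pullback.fst f g).residueFieldMap y₀ ≫ a) ≫ X.fromSpecResidueField (pullback.fst f g y₀) =
        X.fromSpecResidueField x := by
      rw [Spec.map_comp, Category.assoc, Scheme.Hom.SpecMap_residueFieldMap_fromSpecResidueField, ← Category.assoc, e]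
      exact hm1
    have key : ∀ (p : X) (hp : p = x) (α : X.residueField p ⟶ X.residueField x),
        Spec.map α ≫ X.fromSpecResidueField p = X.fromSpecResidueField x → Function.Bijective α := by
      intro p hp
      subst hp
      intro α hα
      have : α = 𝟙 _ := Spec.map_injective (by
        rw [← cancel_mono (X.fromSpecResidueField _), hα, Spec.map_id, Category.id_comp])
      subst this
      exact Function.bijective_id
    intro c
    obtain ⟨d, hd⟩ := (key _ hy₀ _ e2).2 (a c)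
    exact ⟨d, a.hom.injective hd⟩
  let hsec : (f ⁻¹ᵁ U : Scheme.{u}) ⟶ pullback f g := pullback.lift (f ⁻¹ᵁ U).ι h hh.symm
  have hsec1 : hsec ≫ pullback.fst f g = (f ⁻¹ᵁ U).ι := pullback.lift_fst ..
  have hsec2 : hsec ≫ pullback.snd f g = h := pullback.lift_snd ..
  have hcrit := (Groth.Agent.S3848.result (pullback.fst f g) (f ⁻¹ᵁ U) (dense_preimage (f := f) hU) hsec hsec1 x hxU
    (hnorm z).2 y₀ hy₀ hk).2 (by
      intro R _ _ _ u hu ub hub
      obtain ⟨h₁, g1, g2, -, g4⟩ := lift_dvr hZ H R (FractionRing R) u z hu ub hub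
      refine ⟨pullback.lift u h₁ g1.symm, pullback.lift_fst .., ?_, ?_⟩
      · have hcl : Spec.map (CommRingCat.ofHom (residue R)) (closedPoint (ResidueField R)) = closedPoint R :=
          IsLocalRing.comap_closedPoint (residue R)
        obtain ⟨⟨p, a⟩, hpa⟩ := (Scheme.SpecToEquivOfField (ResidueField R) X).symm.surjective
          (Spec.map (CommRingCat.ofHom (residue R)) ≫ u)
        have hp : p = x := by
          have := congrArg (fun q => q (closedPoint (ResidueField R))) hpa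
          change (Spec.map a ≫ X.fromSpecResidueField p) _ = _ at this
          rw [Scheme.Hom.comp_apply, Scheme.fromSpecResidueField_apply, Scheme.Hom.comp_apply, hcl] at this
          exact this.trans hu
        subst hp
        have hpa' : Spec.map a ≫ X.fromSpecResidueField x = Spec.map (CommRingCat.ofHom (residue R)) ≫ u := hpa
        have : Spec.map (CommRingCat.ofHom (residue R)) ≫ pullback.lift u h₁ g1.symm = Spec.map a ≫ m := by
          apply pullback.hom_ext
          · rw [Category.assoc, pullback.lift_fst, Category.assoc, hm1, hpa']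
          · rw [Category.assoc, pullback.lift_snd, Category.assoc]
            simp only [m, pullback.lift_snd]
            simp only [← Category.assoc]
            refine g4 _ ?_
            simp only [Category.assoc]
            refine Eq.trans ?_ hpa'
            rw [← Category.assoc (Spec.map a), ← Spec.map_comp]
            exact map_inv_residueFieldMap iZ z a
        rw [← hcl, ← Scheme.Hom.comp_apply, this, Scheme.Hom.comp_apply]
        congr 1
        exact Subsingleton.elim _ _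
      · apply pullback.hom_ext
        · rw [Category.assoc, pullback.lift_fst, Category.assoc, hsec1, hub]
        · rw [Category.assoc, pullback.lift_snd, Category.assoc, hsec2, g2])
  obtain ⟨U', hUU', hxU', h', h'q, h'h, h'x⟩ := hcrit
  let b₀ : (U' : Scheme.{u}) ⟶ Y := h' ≫ pullback.snd f g
  obtain ⟨_, ⟨V, hV, rfl⟩, hzV, -⟩ :=
    Y.isBasis_affineOpens.exists_subset_of_mem_open (Set.mem_univ (h₀ z)) isOpen_univ
  revert V
  intro (V : Y.Opens) hV hzV
  obtain ⟨O, hO, hOeq⟩ := iZ.isClosedEmbedding.isInducing.isOpen_iff.1 (V.2.preimage h₀.continuous)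
  let W₀ : X.Opens := (U'.ι ''ᵁ (b₀ ⁻¹ᵁ V)) ⊓ ⟨O, hO⟩
  have hxW₀ : x ∈ W₀ := by
    refine ⟨⟨⟨x, hxU'⟩, ?_, rfl⟩, ?_⟩
    · show (h' ≫ pullback.snd f g) _ ∈ V
      rw [Scheme.Hom.comp_apply, h'x, hy₀2]
      exact hzV
    · have : z ∈ iZ ⁻¹' O := by rw [hOeq]; exact hzV
      exact this
  obtain ⟨W, hxW, hWaff, hWle, hinj⟩ := X.exists_le_and_germ_injective x W₀ hxW₀
  haveI : Nonempty (W : Scheme.{u}) := ⟨⟨x, hxW⟩⟩
  haveI : IsDomain Γ(X, W) := hinj.isDomain _
  haveI : IsIntegral (W : Scheme.{u}) := isIntegral_of_isOpenImmersion hWaff.isoSpec.hom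
  have hWU' : W ≤ U' := fun p hp => by
    obtain ⟨⟨a, -, rfl⟩, -⟩ := hWle hp
    exact a.2
  let b : (W : Scheme.{u}) ⟶ Y := X.homOfLE hWU' ≫ b₀
  have hbg : b ≫ g = W.ι ≫ f := by
    simp only [b, b₀, Category.assoc]
    rw [← pullback.condition, reassoc_of% h'q, Scheme.homOfLE_ι_assoc]
  have hbV : Set.range b ⊆ (V : Set Y) := by
    rintro _ ⟨p, rfl⟩
    obtain ⟨⟨a, ha, hap⟩, -⟩ := hWle p.2
    have : X.homOfLE hWU' p = a := by
      apply U'.ι.isOpenEmbedding.injective
      rw [← Scheme.Hom.comp_apply, Scheme.homOfLE_ι]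
      exact hap.symm
    show b₀ (X.homOfLE hWU' p) ∈ V
    rw [this]
    exact ha
  have hbU : ∀ {T : Scheme.{u}} (p : T ⟶ (f ⁻¹ᵁ U : Scheme.{u})) (r : T ⟶ (W : Scheme.{u})),
      p ≫ (f ⁻¹ᵁ U).ι = r ≫ W.ι → r ≫ b = p ≫ h := by
    intro T p r hpr
    have : r ≫ X.homOfLE hWU' = p ≫ X.homOfLE hUU' := by
      rw [← cancel_mono U'.ι, Category.assoc, Category.assoc, Scheme.homOfLE_ι, Scheme.homOfLE_ι, hpr]
    simp only [b, b₀]
    rw [reassoc_of% this, reassoc_of% h'h, hsec2]
  refine ⟨W, hxW, V, hV, inferInstance, b, hbg, hbV, @hbU, ?_⟩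
  let WZ : Z.Opens := iZ ⁻¹ᵁ W
  have main : (iZ ∣_ W) ≫ b = WZ.ι ≫ h₀ := by
    have r1 : Set.range ((iZ ∣_ W) ≫ b) ⊆ Set.range V.ι := by
      rw [Scheme.Opens.range_ι]; rintro _ ⟨p, rfl⟩; exact hbV ⟨_, rfl⟩
    have r2 : Set.range (WZ.ι ≫ h₀) ⊆ Set.range V.ι := by
      rw [Scheme.Opens.range_ι]; rintro _ ⟨p, rfl⟩
      have : WZ.ι p ∈ iZ ⁻¹' O := (hWle p.2).2
      rw [hOeq] at this
      exact this
    haveI : IsAffine (V : Scheme.{u}) := hV
    rw [← IsOpenImmersion.lift_fac V.ι _ r1, ← IsOpenImmersion.lift_fac V.ι _ r2]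
    congr 1
    refine ext_of_fromSpecResidueField_eq _ _ (terminal.from _) Set.univ dense_univ (fun w _ => ?_)
      (terminal.hom_ext _ _)
    rw [← cancel_mono V.ι, Category.assoc, Category.assoc, IsOpenImmersion.lift_fac, IsOpenImmersion.lift_fac]
    let zw : Z := WZ.ι w
    have hne : iZ zw ≠ W.ι (genericPoint (W : Scheme.{u})) := by
      intro heq
      have h1 : iZ zw ∈ Set.range iZ := ⟨_, rfl⟩
      rw [hZ, heq] at h1
      obtain ⟨q, hq⟩ := (dense_preimage (f := f) hU).exists_mem_open W.2 ⟨x, hxW⟩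
      exact h1 (((genericPoint_specializes (α := ↥(W : Scheme.{u})) ⟨q, hq.2⟩).map W.ι.continuous).mem_open (f ⁻¹ᵁ U).2 hq.1)
    have hgU : W.ι (genericPoint (W : Scheme.{u})) ∈ f ⁻¹ᵁ U := by
      obtain ⟨q, hq⟩ := (dense_preimage (f := f) hU).exists_mem_open W.2 ⟨x, hxW⟩
      exact ((genericPoint_specializes (α := ↥(W : Scheme.{u})) ⟨q, hq.2⟩).map W.ι.continuous).mem_open (f ⁻¹ᵁ U).2 hq.1
    have hsp : (f ⁻¹ᵁ U).ι ⟨_, hgU⟩ ⤳ iZ zw :=
      (genericPoint_specializes (α := ↥(W : Scheme.{u})) ⟨iZ zw, w.2⟩).map W.ι.continuous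
    obtain ⟨A, u, hA, hu, hgen⟩ := DVRVal.exists_dvr_specializes (f ⁻¹ᵁ U).ι ⟨_, hgU⟩ (iZ zw) hsp hne
    haveI := hA
    obtain ⟨h₁, g1, g2, g3, g4⟩ := lift_dvr hZ H A ((f ⁻¹ᵁ U : Scheme.{u}).residueField ⟨_, hgU⟩) u zw hu
      ((f ⁻¹ᵁ U : Scheme.{u}).fromSpecResidueField ⟨_, hgU⟩) hgen.symm
    have hru : Set.range u ⊆ Set.range W.ι := by
      rw [Scheme.Opens.range_ι]
      rintro _ ⟨p, rfl⟩
      exact ((specializes_closedPoint p).map u.continuous).mem_open W.2 (hu ▸ w.2)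
    let uW := IsOpenImmersion.lift W.ι u hru
    have huW : uW ≫ W.ι = u := IsOpenImmersion.lift_fac _ _ _
    have r3 : Set.range h₁ ⊆ Set.range V.ι := by
      rw [Scheme.Opens.range_ι]
      rintro _ ⟨p, rfl⟩
      refine ((specializes_closedPoint p).map h₁.continuous).mem_open V.2 ?_
      rw [g3]
      have hm := r2 ⟨w, rfl⟩
      rw [Scheme.Opens.range_ι] at hm
      exact hm
    have r4 : Set.range (uW ≫ b) ⊆ Set.range V.ι := by
      rw [Scheme.Opens.range_ι]; rintro _ ⟨p, rfl⟩; exact hbV ⟨_, rfl⟩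
    haveI : IsDominant (Spec.map (CommRingCat.ofHom
        (algebraMap A ((f ⁻¹ᵁ U : Scheme.{u}).residueField ⟨_, hgU⟩)))) :=
      ⟨(PrimeSpectrum.denseRange_comap_iff_ker_le_nilRadical _).2 (by
        show RingHom.ker (algebraMap A _) ≤ _
        rw [(RingHom.injective_iff_ker_eq_bot _).1 (IsFractionRing.injective A _)]
        exact bot_le)⟩
    have e : IsOpenImmersion.lift V.ι h₁ r3 = IsOpenImmersion.lift V.ι (uW ≫ b) r4 := by
      refine ext_of_isDominant_of_isSeparated (terminal.from _) (terminal.hom_ext _ _)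
        (Spec.map (CommRingCat.ofHom (algebraMap A ((f ⁻¹ᵁ U : Scheme.{u}).residueField ⟨_, hgU⟩)))) ?_
      rw [← cancel_mono V.ι, Category.assoc, Category.assoc, IsOpenImmersion.lift_fac, IsOpenImmersion.lift_fac, g2]
      refine ((Category.assoc _ _ _).symm.trans (hbU _ _ ?_)).symm
      rw [Category.assoc, huW]
      exact hgen.symm
    have e' : h₁ = uW ≫ b := by
      rw [← IsOpenImmersion.lift_fac V.ι h₁ r3, e, IsOpenImmersion.lift_fac]
    obtain ⟨σ, hσ⟩ := exists_lift (iZ := iZ) (Spec.map (CommRingCat.ofHom (residue A)) ≫ u) zw (by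
      rw [Scheme.Hom.comp_apply]
      rw [show Spec.map (CommRingCat.ofHom (residue A)) (closedPoint (ResidueField A)) = closedPoint A from
        IsLocalRing.comap_closedPoint (residue A)]
      exact hu)
    have hσr : Set.range σ ⊆ Set.range WZ.ι := by
      rw [Scheme.Opens.range_ι]
      rintro _ ⟨p, rfl⟩
      show iZ (σ p) ∈ W
      rw [← Scheme.Hom.comp_apply, hσ, ← huW, Scheme.Hom.comp_apply, Scheme.Hom.comp_apply]
      exact (uW _).2
    let σW := IsOpenImmersion.lift WZ.ι σ hσr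
    have hσW : σW ≫ WZ.ι = σ := IsOpenImmersion.lift_fac _ _ _
    have e5 : σW ≫ (iZ ∣_ W) ≫ b = σW ≫ WZ.ι ≫ h₀ := by
      have : σW ≫ (iZ ∣_ W) = Spec.map (CommRingCat.ofHom (residue A)) ≫ uW := by
        rw [← cancel_mono W.ι, Category.assoc, morphismRestrict_ι, reassoc_of% hσW, hσ, Category.assoc, huW]
      rw [reassoc_of% this, ← e', reassoc_of% hσW]
      exact g4 σ hσ
    obtain ⟨⟨w', a⟩, hwa⟩ := (Scheme.SpecToEquivOfField (ResidueField A) (WZ : Scheme.{u})).symm.surjective σW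
    have hw : w' = w := by
      apply (show Function.Injective (fun p : (WZ : Scheme.{u}) => iZ (WZ.ι p)) from
        iZ.isClosedEmbedding.injective.comp WZ.ι.isOpenEmbedding.injective)
      have hw' : w' = σW (closedPoint (ResidueField A)) := by
        rw [← hwa]
        show w' = (Spec.map a ≫ Scheme.fromSpecResidueField _ w') _
        rw [Scheme.Hom.comp_apply, Scheme.fromSpecResidueField_apply]
      show iZ (WZ.ι w') = iZ zw
      rw [hw', ← Scheme.Hom.comp_apply, ← Scheme.Hom.comp_apply, reassoc_of% hσW, hσ,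
        Scheme.Hom.comp_apply,
        show Spec.map (CommRingCat.ofHom (residue A)) (closedPoint (ResidueField A)) = closedPoint A from
          IsLocalRing.comap_closedPoint (residue A)]
      exact hu
    subst hw
    have hwa' : Spec.map a ≫ (WZ : Scheme.{u}).fromSpecResidueField w' = σW := hwa
    rw [← IsOpenImmersion.lift_fac V.ι ((WZ : Scheme.{u}).fromSpecResidueField w' ≫ (iZ ∣_ W) ≫ b)
        (by rintro _ ⟨p, rfl⟩; exact r1 ⟨_, rfl⟩),
      ← IsOpenImmersion.lift_fac V.ι ((WZ : Scheme.{u}).fromSpecResidueField w' ≫ WZ.ι ≫ h₀)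
        (by rintro _ ⟨p, rfl⟩; exact r2 ⟨_, rfl⟩)]
    congr 1
    haveI : IsDominant (Spec.map a) := by
      constructor
      exact Function.Surjective.denseRange (fun p => ⟨closedPoint (ResidueField A), Subsingleton.elim _ _⟩)
    refine ext_of_isDominant_of_isSeparated (terminal.from _) (terminal.hom_ext _ _) (Spec.map a) ?_
    rw [← cancel_mono V.ι, Category.assoc, Category.assoc, IsOpenImmersion.lift_fac, IsOpenImmersion.lift_fac,
      reassoc_of% hwa', reassoc_of% hwa']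
    exact e5
  intro T r σ hrσ
  have hσr : Set.range σ ⊆ Set.range WZ.ι := by
    rw [Scheme.Opens.range_ι]
    rintro _ ⟨p, rfl⟩
    show iZ (σ p) ∈ W
    rw [← Scheme.Hom.comp_apply, ← hrσ]
    exact (r p).2
  have hσW := IsOpenImmersion.lift_fac WZ.ι σ hσr
  have : r = IsOpenImmersion.lift WZ.ι σ hσr ≫ (iZ ∣_ W) := by
    rw [← cancel_mono W.ι, hrσ, Category.assoc, morphismRestrict_ι, reassoc_of% hσW]
  rw [this, Category.assoc, main, reassoc_of% hσW]

/-- Gluing. -/
theorem exists_global [IsLocallyNoetherian S] [IsLocallyNoetherian X] [Flat f] [LocallyOfFiniteType g]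
    [IsClosedImmersion iZ] [IsReduced Z] (hU : Dense (U : Set S)) (hh : h ≫ g = (f ⁻¹ᵁ U).ι ≫ f)
    (hh₀ : h₀ ≫ g = iZ ≫ f) (hZ : Set.range ⇑iZ = ((f ⁻¹ᵁ U : X.Opens) : Set X)ᶜ)
    (hnorm : ∀ z : ↥Z, IsDomain ↑(X.presheaf.stalk (iZ z)) ∧ IsIntegrallyClosed ↑(X.presheaf.stalk (iZ z)))
    (H : Crit f g U h iZ h₀) :
    ∃ h' : X ⟶ Y, h' ≫ g = f ∧ (f ⁻¹ᵁ U).ι ≫ h' = h ∧ iZ ≫ h' = h₀ := by
  choose W hxW V hV hred b hbg hbV hbU hbZ using exists_local hU hh hh₀ hZ hnorm H
  let O : Option Z → X.Opens := fun i => i.elim (f ⁻¹ᵁ U) W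
  let φ : ∀ i, (O i : Scheme.{u}) ⟶ Y := fun i => match i with
    | none => h
    | some z => b z
  have hcov : IsOpenCover O := by
    rw [IsOpenCover, eq_top_iff]
    intro p _
    rw [Opens.mem_iSup]
    by_cases hp : p ∈ f ⁻¹ᵁ U
    · exact ⟨none, hp⟩
    · have : p ∈ Set.range iZ := by rw [hZ]; exact hp
      obtain ⟨z, rfl⟩ := this
      exact ⟨some z, hxW z⟩
  have agree : ∀ (i j : Option Z) {T : Scheme.{u}} (p : T ⟶ O i) (r : T ⟶ O j) [IsOpenImmersion p],
      p ≫ (O i).ι = r ≫ (O j).ι → p ≫ φ i = r ≫ φ j := by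
    rintro (_ | z) (_ | z') T p r hpi hpr
    · rw [(cancel_mono (f ⁻¹ᵁ U).ι).1 hpr]
    · exact (hbU z' p r hpr).symm
    · exact hbU z r p hpr.symm
    · change T ⟶ (W z : Scheme.{u}) at p
      change T ⟶ (W z' : Scheme.{u}) at r
      change p ≫ (W z).ι = r ≫ (W z').ι at hpr
      haveI : IsOpenImmersion p := hpi
      haveI := hred z
      haveI : IsReduced T := isReduced_of_isOpenImmersion p
      change p ≫ b z = r ≫ b z'
      have hr : Set.range (r ≫ b z') ⊆ Set.range (V z).ι := by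
        rw [Scheme.Opens.range_ι]
        rintro _ ⟨q, rfl⟩
        have heq : (p ≫ (W z).ι) q = (r ≫ (W z').ι) q := congrArg (fun k => k q) hpr
        by_cases hq : (p ≫ (W z).ι) q ∈ f ⁻¹ᵁ U
        · let t := (p ≫ (W z).ι) ⁻¹ᵁ (f ⁻¹ᵁ U)
          have e1 := hbU z ((p ≫ (W z).ι) ∣_ (f ⁻¹ᵁ U)) (t.ι ≫ p) (by rw [morphismRestrict_ι, Category.assoc])
          have e2 := hbU z' ((p ≫ (W z).ι) ∣_ (f ⁻¹ᵁ U)) (t.ι ≫ r) (by
            rw [morphismRestrict_ι, Category.assoc, ← hpr])
          have e3 : (r ≫ b z') q = (p ≫ b z) q := by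
            have h3 : (t.ι ≫ r) ≫ b z' = (t.ι ≫ p) ≫ b z := e2.trans e1.symm
            have := congrArg (fun k => k (⟨q, hq⟩ : t)) h3
            simp only [Category.assoc, Scheme.Hom.comp_apply] at this ⊢
            exact this
          rw [e3, Scheme.Hom.comp_apply]
          exact hbV z ⟨_, rfl⟩
        · have : (p ≫ (W z).ι) q ∈ Set.range iZ := by rw [hZ]; exact hq
          obtain ⟨w, hw⟩ := this
          let σ : Spec (T.residueField q) ⟶ T := T.fromSpecResidueField q
          obtain ⟨τ, hτ⟩ := exists_lift (iZ := iZ) (K := T.residueField q) (σ ≫ p ≫ (W z).ι) w (by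
            rw [Scheme.Hom.comp_apply]
            refine (congrArg (p ≫ (W z).ι) ?_).trans hw.symm
            exact Scheme.fromSpecResidueField_apply _ _)
          have e1 := hbZ z (σ ≫ p) τ ((Category.assoc _ _ _).trans hτ.symm)
          have e2 := hbZ z' (σ ≫ r) τ ((Category.assoc _ _ _).trans ((congrArg (σ ≫ ·) hpr.symm).trans hτ.symm))
          have e3 : (r ≫ b z') q = (p ≫ b z) q := by
            have h3 : (σ ≫ r) ≫ b z' = (σ ≫ p) ≫ b z := e2.trans e1.symm
            have := congrArg (fun k => k (closedPoint (T.residueField q))) h3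
            simpa only [σ, Category.assoc, Scheme.Hom.comp_apply, Scheme.fromSpecResidueField_apply] using this
          rw [e3, Scheme.Hom.comp_apply]
          exact hbV z ⟨_, rfl⟩
      have hl : Set.range (p ≫ b z) ⊆ Set.range (V z).ι := by
        rw [Scheme.Opens.range_ι]; rintro _ ⟨q, rfl⟩; exact hbV z ⟨_, rfl⟩
      haveI : IsAffine (V z : Scheme.{u}) := hV z
      rw [← IsOpenImmersion.lift_fac (V z).ι _ hl, ← IsOpenImmersion.lift_fac (V z).ι _ hr]
      congr 1
      let t := (p ≫ (W z).ι) ⁻¹ᵁ (f ⁻¹ᵁ U)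
      haveI : IsDominant t.ι := by
        constructor
        rw [DenseRange, Scheme.Opens.range_ι]
        exact (dense_preimage (f := f) hU).preimage (p ≫ (W z).ι).isOpenEmbedding.isOpenMap
      refine ext_of_isDominant_of_isSeparated (terminal.from _) (terminal.hom_ext _ _) t.ι ?_
      rw [← cancel_mono (V z).ι, Category.assoc, Category.assoc, IsOpenImmersion.lift_fac, IsOpenImmersion.lift_fac,
        ← Category.assoc, ← Category.assoc, hbU z ((p ≫ (W z).ι) ∣_ (f ⁻¹ᵁ U)) (t.ι ≫ p) (by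
          rw [morphismRestrict_ι, Category.assoc]),
        hbU z' ((p ≫ (W z).ι) ∣_ (f ⁻¹ᵁ U)) (t.ι ≫ r) (by rw [morphismRestrict_ι, Category.assoc, ← hpr])]
  let 𝒰 := X.openCoverOfIsOpenCover O hcov
  let h' : X ⟶ Y := 𝒰.glueMorphisms φ (fun i j => @agree i j _ (pullback.fst (O i).ι (O j).ι) (pullback.snd (O i).ι (O j).ι) inferInstance pullback.condition)
  have hι : ∀ i, (O i).ι ≫ h' = φ i := fun i => 𝒰.ι_glueMorphisms φ _ i
  refine ⟨h', ?_, hι none, ?_⟩
  · refine 𝒰.hom_ext _ _ fun i => ?_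
    change (O i).ι ≫ h' ≫ g = (O i).ι ≫ f
    rw [reassoc_of% hι i]
    rcases i with _ | z
    · exact hh
    · exact hbg z
  · refine (Z.openCoverOfIsOpenCover (fun z => iZ ⁻¹ᵁ W z) ?_).hom_ext _ _ fun z => ?_
    · rw [IsOpenCover, eq_top_iff]
      intro p _
      rw [Opens.mem_iSup]
      exact ⟨p, hxW p⟩
    · change (iZ ⁻¹ᵁ W z).ι ≫ iZ ≫ h' = (iZ ⁻¹ᵁ W z).ι ≫ h₀
      rw [← morphismRestrict_ι_assoc, show (W z).ι ≫ h' = b z from hι (some z)]
      exact hbZ z _ _ (morphismRestrict_ι _ _)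

end Groth.Agent.RatExt25
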